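import Groth.Agent.Sga4h.NcPoint
import Mathlib.AlgebraicGeometry.ZariskisMainTheorem
import Mathlib.AlgebraicGeometry.Morphisms.Proper
import Mathlib.AlgebraicGeometry.Noetherian

/-!
# Closed subschemes of a proper scheme over a local base with algebraic coordinates are finite

* `finite_of_isClosed_singleton`: a Noetherian scheme with all points closed is finite;
* `isFinite_of_finite_closedFibre`: a proper scheme over a local ring with finite closed fibre is finite;
* `isFinite_of_charts` (GF): `P` proper over `Spec R`, `R` local, covered by charts `Spec B_a`, `B_a = R[t_a1, …, t_aN]`;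
  a closed subscheme `Z` of `P` none of whose points maps to the generic point of the closed fibre of
  `𝔸¹_R` under one of the coordinates `t_ab` is finite over `Spec R`.
-/

set_option autoImplicit false
universe u
open CategoryTheory CategoryTheory.Limits AlgebraicGeometry Opposite

namespace Groth.Agent.Etdl.H258.GF

/-- A Noetherian quasi-sober space all of whose points are closed is finite. -/
theorem finite_of_isClosed_singleton {T : Type*} [TopologicalSpace T]
    [TopologicalSpace.NoetherianSpace T] [QuasiSober T] (h : ∀ x : T, IsClosed ({x} : Set T)) :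
    Finite T := by
  obtain ⟨A, hAf, hAc, hAi, hA⟩ :=
    TopologicalSpace.NoetherianSpace.exists_finite_set_isClosed_irreducible (isClosed_univ (X := T))
  have hsub : ∀ t ∈ A, ∃ g : T, t = {g} := fun t ht => by
    obtain ⟨g, hg⟩ := QuasiSober.sober (hAi t ht) (hAc t ht)
    refine ⟨g, ?_⟩
    rw [← hg.def, (h g).closure_eq]
  have hfin : (Set.univ : Set T).Finite := by
    rw [hA]
    refine Set.Finite.sUnion hAf fun t ht => ?_
    obtain ⟨g, rfl⟩ := hsub t ht
    exact Set.finite_singleton g
  exact Set.finite_univ_iff.mp hfin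

set_option backward.isDefEq.respectTransparency.types false in
/-- A proper scheme over a local ring whose closed fibre is finite as a set is finite. -/
theorem isFinite_of_finite_closedFibre (R : Type u) [CommRing R] [IsLocalRing R] {Z : Scheme.{u}}
    (f : Z ⟶ Spec (CommRingCat.of R)) [IsProper f]
    (h : (f ⁻¹' {(IsLocalRing.closedPoint R : Spec (CommRingCat.of R))}).Finite) : IsFinite f := by
  obtain ⟨V, hV, hfin⟩ := exists_isFinite_morphismRestrict_of_finite_preimage_singleton
    (f := f) (IsLocalRing.closedPoint R : Spec (CommRingCat.of R)) h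
  have hVtop : V = ⊤ := by
    rw [eq_top_iff]
    intro x _
    exact (IsLocalRing.specializes_closedPoint (R := R) x).mem_open V.2 hV
  exact (IsZariskiLocalAtTarget.iff_of_iSup_eq_top (P := @IsFinite.{u}) (f := f) (fun _ : Unit => V)
    (by rw [hVtop]; simp)).mpr fun _ => hfin

open Polynomial in
/-- (GF) -/
theorem isFinite_of_charts (R : Type u) [CommRing R] [IsLocalRing R] {P : Scheme.{u}}
    (p : P ⟶ Spec (CommRingCat.of R)) [IsProper p] (N : ℕ) {ι : Type*} (B : ι → Type u)
    [∀ a, CommRing (B a)] [∀ a, Algebra R (B a)] (t : ∀ a, Fin N → B a)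
    (ht : ∀ a, Algebra.adjoin R (Set.range (t a)) = ⊤)
    (u : ∀ a, Spec (CommRingCat.of (B a)) ⟶ P) [∀ a, IsOpenImmersion (u a)]
    (hu : ∀ a, u a ≫ p = Spec.map (CommRingCat.ofHom (algebraMap R (B a))))
    (hcov : ∀ x : P, ∃ a, x ∈ Set.range (u a))
    {Z : Scheme.{u}} (i : Z ⟶ P) [IsClosedImmersion i]
    (H : ∀ (a : ι) (b : Fin N) (w : Spec (CommRingCat.of (B a))), u a w ∈ Set.range i →
      w.asIdeal.comap (Polynomial.aeval (R := R) (t a b)) ≠
        (IsLocalRing.maximalIdeal R).map C) :
    IsFinite (i ≫ p) := by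
  let κ := IsLocalRing.ResidueField R
  let r : Spec (CommRingCat.of κ) ⟶ Spec (CommRingCat.of R) :=
    Spec.map (CommRingCat.ofHom (IsLocalRing.residue R))
  have hr : IsClosedImmersion r :=
    IsClosedImmersion.spec_of_surjective _ IsLocalRing.residue_surjective
  let Ps : Scheme.{u} := pullback (i ≫ p) r
  let fs : Ps ⟶ Spec (CommRingCat.of κ) := pullback.snd (i ≫ p) r
  let is : Ps ⟶ P := pullback.fst (i ≫ p) r ≫ i
  have hfs : LocallyOfFiniteType fs := inferInstance
  have hfsq : QuasiCompact fs := inferInstance
  have his : IsClosedImmersion is := inferInstance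
  have hcl : ∀ y : Ps, IsClosed ({y} : Set Ps) := by
    intro y
    obtain ⟨a, z, hz⟩ := hcov (is y)
    refine Groth.Agent.Sga4h.NcPoint.PT R is fs p ?_ N (B a) (t a) (ht a) (u a) (hu a) y z hz.symm fun b => ?_
    · change (pullback.fst (i ≫ p) r ≫ i) ≫ p = _
      rw [Category.assoc, pullback.condition]
    · refine H a b z ⟨pullback.fst (i ≫ p) r y, ?_⟩
      rw [hz]
      exact (Scheme.Hom.comp_apply _ _ _).symm
  have hN1 : IsLocallyNoetherian Ps := LocallyOfFiniteType.isLocallyNoetherian fs
  have hN2 : CompactSpace Ps := QuasiCompact.compactSpace_of_compactSpace fs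
  have hN3 : IsNoetherian Ps := { }
  have hfin : Finite Ps := finite_of_isClosed_singleton hcl
  have hprop : IsProper (i ≫ p) := inferInstance
  refine isFinite_of_finite_closedFibre R (i ≫ p) ?_
  refine (Set.finite_range (pullback.fst (i ≫ p) r : Ps → Z)).subset ?_
  intro z hz
  have hz' : (i ≫ p) z = IsLocalRing.closedPoint R := hz
  have hκ : r (IsLocalRing.closedPoint κ) = IsLocalRing.closedPoint R :=
    IsLocalRing.comap_closedPoint (IsLocalRing.residue R)
  obtain ⟨w, hw, -⟩ := Scheme.Pullback.exists_preimage_pullback (f := i ≫ p) (g := r) z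
    (IsLocalRing.closedPoint κ) (hz'.trans hκ.symm)
  exact ⟨w, hw⟩

end Groth.Agent.Etdl.H258.GF
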