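import Groth.Agent.Etdl.H434.Defs
import Groth.Agent.Etdl.H438.PowStrict
import Groth.Agent.Sga4h.StalkAcyc
import Groth.Agent.Sga4h.SLoc
import Groth.Agent.Etrest.HConstIso
import Groth.Agent.EtpbcB.GeomPointIndep
import Mathlib.RingTheory.MvPowerSeries.Equiv

/-!
# The statement of S3735 from the finiteness theorem `FT m`
-/

set_option autoImplicit false
universe u
open CategoryTheory CategoryTheory.Limits AlgebraicGeometry Opposite

namespace Groth.Agent.Etdl.H258.S3735Of

open Groth.Agent.Sga4h Groth.Agent.Sga4h.ConsWO Groth.Agent.Etdl.H434.Defs Groth.Agent.Etrest.StrictLoc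

/-- The cohomology of `X` over a strictly henselian local scheme is the stalk of the higher direct image
at the closed point. -/
theorem nonempty_addEquiv (R : Type u) [CommRing R] [HenselianLocalRing R]
    [IsSepClosed (IsLocalRing.ResidueField R)] {X : Scheme.{u}} (f : X ⟶ Spec (CommRingCat.of R))
    [QuasiCompact f] [QuasiSeparated f] (F : EtCoh.Ab X) (q : ℕ) :
    Nonempty ((EtCoh.stalk (resPt R ≫ 𝟙 _)).obj ((EtCoh.Rpush f q).obj F) ≃+ EtCoh.H X F q) := by
  obtain ⟨e⟩ := StalkAcyc.nonempty_stalk_iso f F (SLoc.isStrictLoc_id R) q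
  have : PreservesFiniteLimits (EtCoh.pull (pullback.fst f (𝟙 (Spec (CommRingCat.of R))))) :=
    inferInstance
  let e1 := AddEquiv.ofBijective (EtCore.Hpull (pullback.fst f (𝟙 (Spec (CommRingCat.of R)))) F q)
    (Groth.Agent.Etrest.HConstIso.Hpull_bijective _ F q)
  exact ⟨e.addCommGroupIsoToAddEquiv.trans e1.symm⟩

theorem finite_of_ft (m : ℕ) (h : FT.{u} m) (k : Type u) [Field k] [IsAlgClosed k] [CharZero k]
    {X : Scheme.{u}} (f : X ⟶ Spec (CommRingCat.of (MvPowerSeries (Fin m) k)))
    [LocallyOfFiniteType f] [QuasiCompact f] (F : EtCoh.Ab X) (hF : EtPBC.IsConstructible F) (n : ℕ)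
    (hn : 0 < n) (hFn : EtCoh.KilledBy n F) (q : ℕ) : Finite (EtCoh.H X F q) := by
  have hc := h k n hn f (𝟙 _) f (Category.comp_id f) F ⟨hF, 1, by rw [pow_one]; exact hFn⟩ q
  have h1 : HenselianLocalRing (MvPowerSeries (Fin m) k) :=
    Groth.Agent.Etdl.H438.PowStrict.henselian_field k m
  have h2 : IsSepClosed (IsLocalRing.ResidueField (MvPowerSeries (Fin m) k)) :=
    Groth.Agent.Etdl.H438.PowStrict.isSepClosed_field k m
  have hN : IsNoetherianRing (MvPowerSeries (Fin m) k) := inferInstance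
  have hX : IsLocallyNoetherian X := LocallyOfFiniteType.isLocallyNoetherian f
  have h3 : QuasiSeparated f := inferInstance
  have h4 := EtpbcB.GeomPointIndep.finite_stalk_of_constructible
    (resPt (MvPowerSeries (Fin m) k) ≫ 𝟙 _) ((EtCoh.Rpush f q).obj F) hc.1
  obtain ⟨e⟩ := nonempty_addEquiv (MvPowerSeries (Fin m) k) f F q
  exact Finite.of_equiv _ e.toEquiv

end Groth.Agent.Etdl.H258.S3735Of
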